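import Groth.Agent.Posit43.Sections
import Groth.Agent.VarGrow31.Basic
import Groth.Agent.S1664
import Groth.Agent.SurfInt.Basic
import Groth.Agent.S0047
import Groth.Agent.Lib.Euler

/-!
# Higher cohomology of twists by a globally generated module

For `L` globally generated and `dim Supp M ≤ d`, `dim H^i(X, M ⊗ L^m) = O(m^(d-1))` for `i ≥ 1`.
-/

set_option linter.style.haveILetI false
set_option linter.unusedSectionVars false
set_option backward.isDefEq.respectTransparency false
set_option backward.isDefEq.respectTransparency.types false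

universe u

open CategoryTheory CategoryTheory.Limits AlgebraicGeometry TopologicalSpace Opposite
open scoped Groth.Agent.H23.PicMul

attribute [local instance] HasDerivedCategory.standard

noncomputable section

namespace Groth.Agent.GenGrowth43

open Groth.Agent HilbPoly VarGrow31 Posit43

variable (k : Type u) [Field k] {X : Scheme.{u}} [X.Over (Spec (CommRingCat.of k))]
  [IsProper (X ↘ Spec (CommRingCat.of k))]

/-- Multiplication shifts the twist. -/
theorem hd_tensor_succ (L M : X.Modules) (i m : ℕ) :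
    hd k L (CohB1.tensorMod M L) i m = hd k L M i (m + 1) :=
  (CurveCohLib.hhEquiv (k := k) (H23.PicMul.cl_eq_iff.1 (by
    show PicF.cl (CohB1.tensorMod (CohB1.tensorMod M L) (CohB1.tensorPow L m)) =
      PicF.cl (CohB1.tensorMod M (CohB1.tensorPow L (m + 1)))
    rw [H23.PicMul.cl_tensor, H23.PicMul.cl_tensor, H23.PicMul.cl_tensor, H23.PicMul.cl_tensorPow,
      H23.PicMul.cl_tensorPow, pow_succ', mul_assoc])).some i).finrank_eq

theorem pos_growLt {L : X.Modules} (hL : PicF.IsInvertible L) (hgg : Curv2.IsGloballyGenerated L) :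
    ∀ (d : ℕ) (M : X.Modules), Coh.IsCoh M →
      topologicalKrullDim ↥(CohB1.support M) < ((d + 1 : ℕ) : WithBot ℕ∞) →
      ∀ i, 0 < i → GrowLt d (hd k L M i) := by
  haveI := CurveCohLib.isNoetherian_of_proper (k := k) (X := X)
  intro d
  induction d with
  | zero =>
    intro M hM hd' i hi m
    have hP := InvX.isInvertible_tensorPow hL m
    have hT : Coh.IsCoh (CohB1.tensorMod M (CohB1.tensorPow L m)) :=
      AmpleVan.isCoh_tensor hM (AmpleVan.isCoh_invertible hP)
    have hcl : ∀ x ∈ CohB1.support (CohB1.tensorMod M (CohB1.tensorPow L m)), IsClosed ({x} : Set X) :=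
      fun x hx => by
        rw [← Euler.closure_eq_self_of_dim_le_zero (QCoh.isClosed_support_of_isFT hM.1 hM.2)
          (le_of_lt_succ hd') (support_tensor_subset _ _ hx)]
        exact isClosed_closure
    haveI := S0047.result X _ hT hcl i hi
    exact Module.finrank_zero_of_subsingleton (R := k)
      (M := Coh.HH X (CohB1.tensorMod M (CohB1.tensorPow L m)) i)
  | succ d ih =>
    intro M hM hd'
    refine devissage_pieces (fun F => ∀ i, 0 < i → GrowLt (d + 1) (hd k L F i))
      (fun φ h i hi => (h i hi).mono fun a => (hd_congr k φ i a).ge)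
      (fun {A} hA i _ => (growLt_zero (d + 1)).mono fun a => by
        haveI := Euler.subsingleton_HH_of_isZero (M := (AmpleVan.tw (CohB1.tensorPow L a)).obj A)
          ((AmpleVan.tw (CohB1.tensorPow L a)).map_isZero hA) i
        exact (Module.finrank_zero_of_subsingleton (R := k)
          (M := Coh.HH X ((AmpleVan.tw (CohB1.tensorPow L a)).obj A) i)).le)
      (fun S hS h₁ h₂ h₃ a c i hi => ((a i hi).add (c i hi)).mono fun q => (twist_bounds k hL hS h₁ h₂ h₃ i q).1)
      (T := CohB1.support M) (fun Z j _ _ I ι _ hI hI0 hsub => ?_) hM subset_rfl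
    have hdξ : topologicalKrullDim ↥(closure ({j (genericPoint Z)} : Set X)) ≤ ((d + 1 : ℕ) : WithBot ℕ∞) :=
      le_of_lt_succ ((H23.TopDim.dim_le_dim_of_subset hsub).trans_lt hd')
    obtain ⟨S, hS, e₁, e₂, h₁, h₂, h₃, h3d⟩ := exists_piece_quot j ι hI hI0 hdξ
    obtain ⟨s, hs⟩ := S1664.GenSec.exists_mem_genLocus hL hgg (j (genericPoint Z))
    haveI := mono_mulHom_piece j (𝟙 (Coh.structureModule Z)) s hs
    have hO := QCoh.isCoh_push_structure (X := X) j
    haveI : IsLocallyNoetherian Z := LocallyOfFiniteType.isLocallyNoetherian j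
    have hlt := dimLT_cokernel_piece j (𝟙 _) hL s hs QCoh.isCoh_structureModule' hdξ
    have hP : Coh.IsCoh (CohB1.tensorMod ((Coh.push j).obj (Coh.structureModule Z)) L) :=
      AmpleVan.isCoh_tensor hO (AmpleVan.isCoh_invertible hL)
    have hC := QCoh.isCoh_cokernel hO.1 hP (mulHom s ((Coh.push j).obj (Coh.structureModule Z)))
    have hS' : (ShortComplex.mk (mulHom s ((Coh.push j).obj (Coh.structureModule Z))) (cokernel.π _)
        (cokernel.condition _)).ShortExact :=
      .mk' (ShortComplex.exact_of_g_is_cokernel _ (cokernelIsCokernel _)) ‹_› inferInstance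
    intro i hi
    obtain ⟨i, rfl⟩ := Nat.exists_eq_succ_of_ne_zero hi.ne'
    have hOZ : GrowLt (d + 1) (hd k L ((Coh.push j).obj (Coh.structureModule Z)) (i + 1)) :=
      GrowLt.of_step (ih _ hC hlt (i + 1) i.succ_pos) fun m => by
        have h := (twist_bounds k hL hS' hO hP hC (i + 1) m).1
        change hd k L (CohB1.tensorMod _ L) (i + 1) m ≤ _ at h
        rwa [hd_tensor_succ k L] at h
    have hQ : GrowLt (d + 1) (hd k L S.X₃ i) := small_of_support k hL h₃ h3d i
    refine (hOZ.add hQ).mono fun m => ?_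
    have hb := (twist_bounds k hL hS h₁ h₂ h₃ i m).2.2.1
    rw [e₁, e₂] at hb
    exact hb

/-- The real form on the whole scheme. -/
theorem exists_bound {r : ℕ} (hdim : topologicalKrullDim X = r) {L : X.Modules} (hL : PicF.IsInvertible L)
    (hgg : Curv2.IsGloballyGenerated L) {M : X.Modules} (hM : Coh.IsCoh M) (i : ℕ) (hi : 0 < i) :
    ∃ C : ℝ, ∀ n : ℕ, 1 ≤ n →
      (Module.finrank k (Coh.HH X (CohB1.tensorMod M (CohB1.tensorPow L n)) i) : ℝ) ≤
        C * (n : ℝ) ^ (r - 1) := by
  haveI := CurveCohLib.isNoetherian_of_proper (k := k) (X := X)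
  have h := pos_growLt k hL hgg r M hM (lt_succ_of_le (SurfInt.dim_support_le hdim.le M)) i hi
  rcases r with _ | r
  · exact ⟨0, fun n _ => by
      rw [zero_mul, show Module.finrank k (Coh.HH X (CohB1.tensorMod M (CohB1.tensorPow L n)) i) = 0 from h n]
      simp⟩
  obtain ⟨C, hC⟩ := h
  refine ⟨(C * 2 ^ r : ℕ), fun n hn => ?_⟩
  have h2 : Module.finrank k (Coh.HH X (CohB1.tensorMod M (CohB1.tensorPow L n)) i) ≤ C * 2 ^ r * n ^ r :=
    calc _ ≤ C * (n + 1) ^ r := hC n
      _ ≤ C * (2 * n) ^ r := Nat.mul_le_mul_left C (Nat.pow_le_pow_left (by omega) r)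
      _ = _ := by rw [mul_pow, mul_assoc]
  rw [Nat.add_sub_cancel]
  exact_mod_cast h2

end Groth.Agent.GenGrowth43
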